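import Cfsg.Agent.Mrg.Omega.NO3b.Base.OZ
import Cfsg.Agent.Mrg.Omega.NO3b.Exit.Bridge
import Cfsg.Agent.Mrg.Omega.NOThreeL.NF.Final

section


/-!
# `C_G(D) ≤ N_G(Lb D)` for all `Z ≤ D ≤ V` (#22211, helper16; #22310, helper506)

* `MxL.sitW` : the minimal `Y` acts on `⟨V^⟨S,Y⟩⟩` with the two lines `Lb D ≤ V`; `MxL.V_eq` : `V = Lb D`;
* **`MPt.cent_le`** : `C_G(D) ≤ N_G(Lb D)` for all `Z ≤ D ≤ V`, if LEMMA OZ holds for the panels over `B` in `C_G(Z)`;
* `MPt.cent_le_of_oz` (`V` maximal), `MPt.cent_le_of_last` (the last stage of a chain whose steps are all `PanZ`).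
-/

set_option autoImplicit false

namespace Cfsg.Agent.Omega.NO3b.Base

open Subgroup Cfsg
open Cfsg.Agent.ZN (o2 zc zl jj zj)
open Cfsg.Agent.ZN.ChoiceBase hiding mem_zc
open Cfsg.Agent.ZN.ChoiceSit (Syl exists_syl syl_conj o2_le_syl syl_not_dvd)
open Cfsg.Agent.Omega.NO3b.EZero (NotFF cent_symm cj_cent cj_norm cj_eq_cj_iff cl le_cl cj_le_cl cl_le
  le_normalizer_cl le_normalizer_inf_cent oddGen_sup_syl isPGroup_Q0)
open Cfsg.Agent.Omega.NOThreeL.Star (Opt Ok exists_opt ff)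
open Cfsg.Agent.Omega.NO3b.NoEmp (Lines)
open Cfsg.Agent.Omega.NO3b.Wc
open Cfsg.Agent.Omega.NO3b.Exit
open Cfsg.Agent.MinSimple.MinParabolic (IsMinPar)

universe u

variable {G : Type u} [Group G] [Finite G] {S : Sylow 2 G} {B V : Subgroup G} {Lb : Subgroup G → Subgroup G}

namespace MxL

variable {D T Y : Subgroup G} (m : MxL S V Lb D T Y) (q : MPt S B V Lb) (l : Lines S B V)
include m q l

theorem sitW (hG : IsCharacteristicTwoType G) (hSne : (S : Subgroup G) ≠ ⊥)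
    (cs : (S : Subgroup G) ⊓ centralizer (V : Set G) = B) :
    SitW V (Lb D) D T Y (Y ⊓ normalizer (Lb D : Set G)) (cl V ((S : Subgroup G) ⊔ Y)) where
  cm := cl_comm l (m.panZ q l cs).SX_cent hG hSne
  sq := cl_sq l (m.panZ q l cs).SX_cent hG hSne
  VU := le_cl _ _
  XU := le_sup_right.trans (le_normalizer_cl _ _)
  LV := q.leV D m.ZD m.DV
  FL := q.le D m.ZD m.DV
  nz := m.nleD
  XF := m.YD
  syl := m.sylY
  mp := m.isMinPar q l cs
  TV := m.T_le.trans l.S_le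
  TK := le_inf m.TY (m.min T le_rfl m.TY fun h0 => by
    have h1 := (m.isMinPar q l cs).not_le
    rw [← h0] at h1
    exact h1 Subgroup.le_normalizer)
  KX := inf_le_left
  KL := inf_le_right
  cK := by
    refine le_inf inf_le_left ?_
    refine le_trans (le_inf (inf_le_left.trans m.YD) ?_) (q.stab l m.ZD m.DV)
    exact (inf_le_right.trans (centralizer_le (le_cl _ _))).trans (centralizer_le_normalizer _)
  nK := fun h0 => m.nle (h0.trans inf_le_right)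
  min := fun M h1 h2 h3 => le_inf h2 (m.min M h1 h2 h3)
  ti := fun x hx hn => m.line q l hx fun h0 => hn ⟨hx, h0⟩
  nffV := fun A hA hsq hcm hne => l.nff A (m.syl.2.1.to_le hA) ((hA.trans m.T_le).trans l.S_le) hsq hcm hne
  nffL := fun A hA hF hne => q.nfl D m.ZD m.DV (fun h0 => m.nleV q l (m.YD.trans h0)) A (hA.trans m.T_le)
    (hA.trans (m.TY.trans m.YD)) hF hne

/-- **`V = Lb D`** (THEOREM L with two lines) -/
theorem V_eq (hG : IsCharacteristicTwoType G) (hSne : (S : Subgroup G) ≠ ⊥)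
    (cs : (S : Subgroup G) ⊓ centralizer (V : Set G) = B) {A : Subgroup G}
    (hA : Opt (cl V ((S : Subgroup G) ⊔ Y)) A) (hAT : A ≤ T) (hAY : ¬ A ≤ o2 Y) : V = Lb D :=
  (m.sitW q l hG hSne cs).eq hA hAT hAY

end MxL

/-- **`C_G(D) ≤ N_G(Lb D)` for all `Z ≤ D ≤ V`.** -/
theorem MPt.cent_le (q : MPt S B V Lb) (hG : IsCharacteristicTwoType G) (hSne : (S : Subgroup G) ≠ ⊥)
    (l : Lines S B V) (cs : (S : Subgroup G) ⊓ centralizer (V : Set G) = B)
    (oz : ∀ T Y : Subgroup G, PanZ S B V T Y →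
      ∃ A, Opt (cl V ((S : Subgroup G) ⊔ Y)) A ∧ A ≤ B ∧ ¬ A ≤ o2 Y)
    {D : Subgroup G} (hZ : zc (S : Subgroup G) ≤ D) (hD : D ≤ V) :
    centralizer (D : Set G) ≤ normalizer (Lb D : Set G) := by
  by_contra hn
  obtain ⟨D', T, Y, m⟩ := exists_mx l q hZ hD hn
  have p := m.panZ q l cs
  obtain ⟨A, hA, hAB, hAY⟩ := oz T Y p
  have hV := m.V_eq q l hG hSne cs hA (hAB.trans p.BT) hAY
  exact q.prop D' m.ZD m.DV (fun h0 => m.nleV q l (m.YD.trans h0)) hV.symm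

/-- `C_G(Z) ≤ N_G(Lb Z)` -/
theorem MPt.cent_zc_le (q : MPt S B V Lb) (hG : IsCharacteristicTwoType G) (hSne : (S : Subgroup G) ≠ ⊥)
    (l : Lines S B V) (cs : (S : Subgroup G) ⊓ centralizer (V : Set G) = B)
    (oz : ∀ T Y : Subgroup G, PanZ S B V T Y →
      ∃ A, Opt (cl V ((S : Subgroup G) ⊔ Y)) A ∧ A ≤ B ∧ ¬ A ≤ o2 Y) :
    centralizer (zc (S : Subgroup G) : Set G) ≤ normalizer (Lb (zc (S : Subgroup G)) : Set G) :=
  q.cent_le hG hSne l cs oz le_rfl l.ZV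

/-- with LEMMA OZ -/
theorem MPt.cent_le_of_oz (q : MPt S B V Lb) {Z₁ : Subgroup G} (o : OZ S Z₁ B V)
    (hG : IsCharacteristicTwoType G) (hOff : StmtOff G) (hSne : (S : Subgroup G) ≠ ⊥)
    {D : Subgroup G} (hZ : zc (S : Subgroup G) ≤ D) (hD : D ≤ V) :
    centralizer (D : Set G) ≤ normalizer (Lb D : Set G) :=
  q.cent_le hG hSne o.lines o.cs (fun _ _ p => p.exists_optY o hG hOff hSne) hZ hD

/-- at the last stage of a chain with the steps `PanZ` (`PanZ.step_of`) -/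
theorem MPt.cent_le_of_last (q : MPt S B V Lb) {Z₁ : Subgroup G} (hG : IsCharacteristicTwoType G)
    (hOff : StmtOff G) (hSne : (S : Subgroup G) ≠ ⊥) (l : Lines S B V)
    (cs : (S : Subgroup G) ⊓ centralizer (V : Set G) = B) (eq : V = cl Z₁ (normalizer (B : Set G)))
    (zZ : zc (S : Subgroup G) ≤ Z₁)
    (last : ∀ T X : Subgroup G, PanZ S B V T X →
      (∃ R : Subgroup G, R ≠ ⊥ ∧ IsPGroup 2 R ∧ normalizer (B : Set G) ≤ normalizer (R : Set G) ∧
        X ≤ normalizer (R : Set G)) →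
      NotFF (cl Z₁ (normalizer (B : Set G) ⊔ X)) →
      ¬ cl Z₁ (normalizer (B : Set G) ⊔ X) ≤ o2 (centralizer (zc (S : Subgroup G) : Set G)))
    {D : Subgroup G} (hZ : zc (S : Subgroup G) ≤ D) (hD : D ≤ V) :
    centralizer (D : Set G) ≤ normalizer (Lb D : Set G) := by
  refine q.cent_le hG hSne l cs (fun T Y p => p.exists_opt_of_ff l cs hG hSne fun hn => ?_) hZ hD
  obtain ⟨h1, h2, h3⟩ := p.step_of l cs eq zZ hG hOff hSne hn
  exact last T Y p h1 h2 h3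

end Cfsg.Agent.Omega.NO3b.Base

end

section


/-!
# The base point `D₀` (#21383 (c), helper826): `C_G(Z) ≤ N_G(D₀)`

`Lines S B V`, `B = C_S(V)`, `Z = Ω₁(Z(S))`. `Pt S V D₀` : `D₀ ≤ V` is normal in `S` and in `C_G(Z) ∩ N_G(V)`, `S` has
no offender on `D₀`, and `V = D₀D` for some `Z ≤ D ≤ V` implies `C_S(D) = C_S(V)`.

* `exists_max` : `D` maximal in `V` with `Z ≤ D`, `C_G(D) ≰ N_G(D₀)`, `T = C_S(D)` Sylow in `C_G(D)`, and `Y ≥ T`
  minimal in `C_G(D)` with `Y ≰ N_G(D₀)` (`Mx S V D₀ D T Y`);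
* `Mx.sitR` : `Y` acts on `⟨V^⟨S,Y⟩⟩` with the lines `(D₀D)^y`;
* `Mx.V_eq` : THEOREM L gives `V = D₀D`;
* `Pt.cent_le` : **`C_G(Z) ≤ N_G(D₀)`** if LEMMA OZ holds for all panels over `B` in `C_G(Z)`; `Pt.cent_le_of_oz` (`V`
  maximal), `Pt.cent_le_of_last` (the last stage of a chain whose steps are all `PanZ`).
-/

set_option autoImplicit false

namespace Cfsg.Agent.Omega.NO3b.Base

open Subgroup Cfsg
open Cfsg.Agent.ZN (o2 zc zl jj zj)
open Cfsg.Agent.ZN.ChoiceBase hiding mem_zc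
open Cfsg.Agent.ZN.ChoiceSit (Syl exists_syl syl_conj o2_le_syl syl_not_dvd)
open Cfsg.Agent.MinSimple.EmptyTI (syl_of_le)
open Cfsg.Agent.Omega.NO3b.EZero (NotFF cent_symm cj_cent cj_norm cj_eq_cj_iff cl le_cl cj_le_cl cl_le
  le_normalizer_cl le_normalizer_inf_cent oddGen_sup_syl isPGroup_Q0)
open Cfsg.Agent.Omega.FFThm (ElemM OffM NoOverM)
open Cfsg.Agent.Omega.NOThreeL.Star (Opt Ok exists_opt ff)
open Cfsg.Agent.Omega.NO3b.Wc
open Cfsg.Agent.Omega.NO3b.Exit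
open Cfsg.Agent.Omega.NO3b.NoEmp (Lines)
open Cfsg.Agent.MinSimple.MinParabolic (IsMinPar)
open Cfsg.Agent.MinSimple.VModule (le_centralizer_zc le_normalizer_o2 o2_isPGroup oddGen oddGen_le)

universe u

variable {G : Type u} [Group G] [Finite G] {S : Sylow 2 G} {B V D₀ : Subgroup G}

/-- The base point. -/
structure Pt (S : Sylow 2 G) (V D₀ : Subgroup G) : Prop where
  le : D₀ ≤ V
  S_le : (S : Subgroup G) ≤ normalizer (D₀ : Set G)
  cent : centralizer (zc (S : Subgroup G) : Set G) ⊓ normalizer (V : Set G) ≤ normalizer (D₀ : Set G)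
  nf : ∀ A : Subgroup G, A ≤ (S : Subgroup G) → (∀ a ∈ A, a ^ 2 ∈ centralizer (D₀ : Set G)) →
    (∀ a ∈ A, ∀ b ∈ A, a * b * a⁻¹ * b⁻¹ ∈ centralizer (D₀ : Set G)) → ¬ A ≤ centralizer (D₀ : Set G) →
    (centralizer (D₀ : Set G)).relIndex A < (centralizer (A : Set G)).relIndex D₀
  full : ∀ D : Subgroup G, zc (S : Subgroup G) ≤ D → D ≤ V → V = D₀ ⊔ D →
    (S : Subgroup G) ⊓ centralizer (D : Set G) ≤ centralizer (V : Set G)

/-- `D` maximal in `V` with `Z ≤ D`, `C_G(D) ≰ N_G(D₀)`; `T ≤ S` Sylow in `C_G(D)`; `Y ≥ T` minimal in `C_G(D)` with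
`Y ≰ N_G(D₀)`. -/
structure Mx (S : Sylow 2 G) (V D₀ D T Y : Subgroup G) : Prop where
  ZD : zc (S : Subgroup G) ≤ D
  DV : D ≤ V
  max : ∀ D' : Subgroup G, D ≤ D' → D' ≤ V → ¬ centralizer (D' : Set G) ≤ normalizer (D₀ : Set G) → D' = D
  T_le : T ≤ (S : Subgroup G)
  syl : Syl T (centralizer (D : Set G))
  TY : T ≤ Y
  YD : Y ≤ centralizer (D : Set G)
  nle : ¬ Y ≤ normalizer (D₀ : Set G)
  min : ∀ M : Subgroup G, T ≤ M → M ≤ Y → M ≠ Y → M ≤ normalizer (D₀ : Set G)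

/-- **`D`, `T`, `Y` exist.** -/
theorem exists_max (l : Lines S B V) (q : Pt S V D₀)
    (hn : ¬ centralizer (zc (S : Subgroup G) : Set G) ≤ normalizer (D₀ : Set G)) :
    ∃ D T Y, Mx S V D₀ D T Y := by
  obtain ⟨F, hF, hmax⟩ := Set.exists_max_image
    {F : Subgroup G | zc (S : Subgroup G) ≤ F ∧ F ≤ V ∧ ¬ centralizer (F : Set G) ≤ normalizer (D₀ : Set G)}
    (fun F => Nat.card F) (Set.toFinite _) ⟨_, le_rfl, l.ZV, hn⟩
  have hJ : B ≤ centralizer (F : Set G) := l.JV.trans (centralizer_le hF.2.1)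
  obtain ⟨T, hT, hJT⟩ := exists_syl (S.isPGroup'.to_le l.JS) hJ
  have hTV : T ≤ normalizer (V : Set G) := by
    have h1 := l.le_norm_of hT.2.1 (a := 1) (by rw [cj_one]; exact hJT)
    rwa [cj_one] at h1
  have hTZ : T ≤ centralizer (zc (S : Subgroup G) : Set G) := hT.1.trans (centralizer_le hF.1)
  obtain ⟨T₁, hT₁, hTT₁⟩ := exists_syl hT.2.1 (le_inf hTZ hTV)
  obtain ⟨c, hc, hcT⟩ := syl_conj hT₁ (syl_of_le (le_inf (Alpha.zc_cent (S := S)) l.S_le))
  have hcV : cj c V = V := mem_normalizer_iff_cj.1 hc.2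
  have hciV : cj c⁻¹ V = V := mem_normalizer_iff_cj.1 (inv_mem hc.2)
  have hcZ : cj c (zc (S : Subgroup G)) = zc (S : Subgroup G) :=
    cj_eq_of_mem_normalizer (centralizer_le_normalizer _ hc.1)
  have hcD : c ∈ normalizer (D₀ : Set G) := q.cent hc
  have hN : cj c (normalizer (D₀ : Set G)) = normalizer (D₀ : Set G) :=
    cj_eq_of_mem_normalizer (Subgroup.le_normalizer hcD)
  have hZ : zc (S : Subgroup G) ≤ cj c F := by
    have h1 := cj_mono c hF.1
    rwa [hcZ] at h1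
  have hFV : cj c F ≤ V := by
    have h1 := cj_mono c hF.2.1
    rwa [hcV] at h1
  have hnle : ¬ centralizer ((cj c F : Subgroup G) : Set G) ≤ normalizer (D₀ : Set G) := by
    intro h0
    apply hF.2.2
    rw [← cj_centralizer, ← hN] at h0
    have h1 := cj_mono c⁻¹ h0
    rwa [cj_inv_cj, cj_inv_cj] at h1
  have hsyl : Syl (cj c T) (centralizer ((cj c F : Subgroup G) : Set G)) := by
    have hC : centralizer ((cj c F : Subgroup G) : Set G) = cj c (centralizer (F : Set G)) :=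
      (cj_centralizer _ _).symm
    rw [hC]
    refine ⟨cj_mono _ hT.1, isPGroup_cj _ hT.2.1, fun Q hQ hp hle => ?_⟩
    have h2 := hT.2.2 (cj c⁻¹ Q) (by
      rw [cj_le_iff, inv_inv]; exact hQ) (isPGroup_cj _ hp) (by
      have h3 := cj_mono c⁻¹ hle
      rwa [cj_inv_cj] at h3)
    rw [← h2, cj_cj_inv]
  obtain ⟨Y, hY, hmin⟩ := Set.exists_min_image {P : Subgroup G | cj c T ≤ P ∧
      P ≤ centralizer ((cj c F : Subgroup G) : Set G) ∧ ¬ P ≤ normalizer (D₀ : Set G)} (fun P => Nat.card P)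
    (Set.toFinite _) ⟨_, hsyl.1, le_rfl, hnle⟩
  refine ⟨cj c F, cj c T, Y, ⟨hZ, hFV, fun D' h1 h2 h3 => ?_, (cj_mono c hTT₁).trans hcT.le, hsyl, hY.1, hY.2.1,
    hY.2.2, fun M hTM hMP hne => ?_⟩⟩
  · refine (eq_of_le_of_card_ge h1 ?_).symm
    rw [card_cj]
    exact hmax D' ⟨hZ.trans h1, h2, h3⟩
  · by_contra hcon
    exact hne (eq_of_le_of_card_ge hMP (hmin M ⟨hTM, hMP.trans hY.2.1, hcon⟩))

namespace Mx

variable {D T Y : Subgroup G} (m : Mx S V D₀ D T Y)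
include m

omit [Finite G] in
theorem YZ : Y ≤ centralizer (zc (S : Subgroup G) : Set G) := m.YD.trans (centralizer_le m.ZD)

omit [Finite G] in
theorem not_le : ¬ D₀ ≤ D := fun h0 =>
  m.nle (m.YD.trans ((centralizer_le h0).trans (centralizer_le_normalizer _)))

omit [Finite G] in
theorem T_eq : (S : Subgroup G) ⊓ centralizer (D : Set G) = T :=
  m.syl.2.2 _ inf_le_right (S.isPGroup'.to_le inf_le_left) (le_inf m.T_le m.syl.1)

omit [Finite G] in
theorem sylY : Syl T Y := ⟨m.TY, m.syl.2.1, fun Q hQ hp hle => m.syl.2.2 Q (hQ.trans m.YD) hp hle⟩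

omit [Finite G] in
theorem cs_le : (S : Subgroup G) ⊓ centralizer (V : Set G) ≤ T := by
  rw [← m.T_eq]
  exact inf_le_inf_left _ (centralizer_le m.DV)

omit [Finite G] in
theorem cjD {y : G} (hy : y ∈ Y) : cj y D = D :=
  cj_eq_of_mem_normalizer (centralizer_le_normalizer _ (m.YD hy))

variable (q : Pt S V D₀)
include q

omit [Finite G] in
theorem nleV : ¬ Y ≤ normalizer (V : Set G) := fun h0 => m.nle ((le_inf m.YZ h0).trans q.cent)

variable (l : Lines S B V)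
include l

/-- `V ∩ V^y ≤ D` for `y ∈ Y - N_G(D₀)` -/
theorem line {y : G} (hy : y ∈ Y) (hyD : y ∉ normalizer (D₀ : Set G)) : V ⊓ cj y V ≤ D := by
  have hD : D ≤ V ⊓ cj y V := by
    refine le_inf m.DV ?_
    have h1 := cj_mono y m.DV
    rwa [m.cjD hy] at h1
  by_cases hn : centralizer ((V ⊓ cj y V : Subgroup G) : Set G) ≤ normalizer (D₀ : Set G)
  · exfalso
    obtain ⟨c, hc, hcy⟩ := Alpha.exists_c l (D := V ⊓ cj y V) inf_le_left inf_le_right
    have hcZ : c ∈ centralizer (zc (S : Subgroup G) : Set G) := centralizer_le (m.ZD.trans hD) hc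
    have h1 : c⁻¹ * y ∈ normalizer (V : Set G) := cj_eq_cj_iff.1 hcy.symm
    have h0 : c⁻¹ * y ∈ centralizer (zc (S : Subgroup G) : Set G) := mul_mem (inv_mem hcZ) (m.YZ hy)
    have h2 := q.cent ⟨h0, h1⟩
    have h3 := mul_mem (hn hc) h2
    rw [mul_inv_cancel_left] at h3
    exact hyD h3
  · exact (m.max _ hD inf_le_left hn).le

/-- `Y` is a minimal parabolic over `T`. -/
theorem isMinPar (cs : (S : Subgroup G) ⊓ centralizer (V : Set G) = B) : IsMinPar T Y := by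
  refine ⟨m.TY, fun h0 => m.nle ?_, Y ⊓ normalizer (D₀ : Set G), ?_, fun K hK hKP =>
    le_inf hKP.le (m.min K hK hKP.le hKP.ne)⟩
  · have h1 : Y ≤ normalizer (V : Set G) := h0.trans ((Alpha.normalizer_le l m.T_le (by
      rw [← cs]; exact m.cs_le)).trans l.NJ)
    exact (le_inf m.YZ h1).trans q.cent
  · exact lt_of_le_of_ne inf_le_left fun h1 => m.nle (inf_eq_left.1 h1)

/-- The panel of LEMMA OZ. -/
theorem panZ (cs : (S : Subgroup G) ⊓ centralizer (V : Set G) = B) : PanZ S B V T Y where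
  TS := m.T_le
  BT := by rw [← cs]; exact m.cs_le
  syl := m.sylY
  mp := m.isMinPar q l cs
  XZ := m.YZ
  nle := m.nleV q

omit [Finite G] l in
theorem LV : D₀ ⊔ D ≤ V := sup_le q.le m.DV

omit [Finite G] q l in
theorem cjL {y : G} (hy : y ∈ Y) (hyD : y ∈ normalizer (D₀ : Set G)) : cj y (D₀ ⊔ D) = D₀ ⊔ D := by
  change Subgroup.map _ _ = _
  rw [Subgroup.map_sup]
  congr 1
  · exact cj_eq_of_mem_normalizer hyD
  · exact m.cjD hy

/-- `N_Y(D₀D) = Y ∩ N_G(D₀)` -/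
theorem mem_iff {y : G} (hy : y ∈ Y) :
    y ∈ normalizer ((D₀ ⊔ D : Subgroup G) : Set G) ↔ y ∈ normalizer (D₀ : Set G) := by
  refine ⟨fun h0 => ?_, fun h0 => mem_normalizer_iff_cj.2 (m.cjL hy h0)⟩
  by_contra hcon
  apply m.not_le
  have h1 := m.line q l hy hcon
  have h2 : D₀ ⊔ D ≤ cj y V := by
    have h3 := cj_mono y (m.LV q)
    rwa [cj_eq_of_mem_normalizer h0] at h3
  exact le_sup_left.trans ((le_inf (m.LV q) h2).trans h1)

/-- NF on `D₀D` for the 2-subgroups of `Y ∩ N_G(D₀)` -/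
theorem nff {A : Subgroup G} (hAY : A ≤ Y) (hA : IsPGroup 2 A)
    (hAN : A ≤ normalizer ((D₀ ⊔ D : Subgroup G) : Set G))
    (hsq : ∀ a ∈ A, a ^ 2 ∈ centralizer ((D₀ ⊔ D : Subgroup G) : Set G))
    (hcm : ∀ a ∈ A, ∀ b ∈ A, a * b * a⁻¹ * b⁻¹ ∈ centralizer ((D₀ ⊔ D : Subgroup G) : Set G))
    (hne : ¬ A ≤ centralizer ((D₀ ⊔ D : Subgroup G) : Set G)) :
    (centralizer ((D₀ ⊔ D : Subgroup G) : Set G)).relIndex A < (centralizer (A : Set G)).relIndex (D₀ ⊔ D) := by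
  have hAK : A ≤ Y ⊓ normalizer (D₀ : Set G) := le_inf hAY fun a ha => (m.mem_iff q l (hAY ha)).1 (hAN ha)
  obtain ⟨T₁, hT₁, hAT₁⟩ := exists_syl hA hAK
  have hTK : Syl T (Y ⊓ normalizer (D₀ : Set G)) :=
    ⟨le_inf m.TY (m.T_le.trans q.S_le), m.syl.2.1, fun Q hQ hp hle => m.sylY.2.2 Q (hQ.trans inf_le_left) hp hle⟩
  obtain ⟨k, hk, hkT⟩ := syl_conj hT₁ hTK
  have hkL : cj k (D₀ ⊔ D) = D₀ ⊔ D := m.cjL hk.1 hk.2
  have hAT : cj k A ≤ T := (cj_mono k hAT₁).trans hkT.le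
  have hAD : cj k A ≤ centralizer (D : Set G) := hAT.trans (m.TY.trans m.YD)
  have hcen : ∀ x ∈ centralizer ((D₀ ⊔ D : Subgroup G) : Set G),
      k * x * k⁻¹ ∈ centralizer (D₀ : Set G) := by
    intro x hx
    have h1 : k * x * k⁻¹ ∈ cj k (centralizer ((D₀ ⊔ D : Subgroup G) : Set G)) := EZero.mem_cj_self hx
    rw [cj_centralizer, hkL] at h1
    exact centralizer_le (le_sup_left : D₀ ≤ D₀ ⊔ D) h1
  have hcap : cj k A ⊓ centralizer (D₀ : Set G) ≤ centralizer ((D₀ ⊔ D : Subgroup G) : Set G) := by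
    rintro x ⟨h1, h2⟩
    have h3 : D₀ ⊔ D ≤ centralizer ({x} : Set G) := by
      refine sup_le ?_ ?_
      · intro d hd
        exact mem_centralizer_iff.2 fun y hy => by
          rw [Set.mem_singleton_iff.1 hy]; exact (mem_centralizer_iff.1 h2 d hd).symm
      · intro d hd
        exact mem_centralizer_iff.2 fun y hy => by
          rw [Set.mem_singleton_iff.1 hy]; exact (mem_centralizer_iff.1 (hAD h1) d hd).symm
    exact mem_centralizer_iff.2 fun d hd => (mem_centralizer_iff.1 (h3 hd) x rfl).symm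
  have h1 := q.nf (cj k A) (hAT.trans m.T_le) (by
      intro a ha
      have ha' := mem_cj.1 ha
      have h3 := hcen _ (hsq _ ha')
      have e : k * (k⁻¹ * a * k) ^ 2 * k⁻¹ = a ^ 2 := by rw [pow_two, pow_two]; group
      rwa [e] at h3) (by
      intro a ha b hb
      have ha' := mem_cj.1 ha
      have hb' := mem_cj.1 hb
      have h3 := hcen _ (hcm _ ha' _ hb')
      have e : k * (k⁻¹ * a * k * (k⁻¹ * b * k) * (k⁻¹ * a * k)⁻¹ * (k⁻¹ * b * k)⁻¹) * k⁻¹ =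
          a * b * a⁻¹ * b⁻¹ := by group
      rwa [e] at h3) (by
      intro h0
      apply hne
      have h2 := (le_inf le_rfl h0).trans hcap
      have h3 := cj_mono k⁻¹ h2
      rw [cj_inv_cj, cj_centralizer] at h3
      have h4 : cj k⁻¹ (D₀ ⊔ D) = D₀ ⊔ D := by
        conv_lhs => rw [← hkL]
        exact cj_inv_cj _ _
      rwa [h4] at h3)
  have e1 : (centralizer ((D₀ ⊔ D : Subgroup G) : Set G)).relIndex A =
      (centralizer (D₀ : Set G)).relIndex (cj k A) := by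
    rw [← EZero.relIndex_cj k, cj_centralizer, hkL, ← inf_relIndex_right (centralizer (D₀ : Set G)),
      ← inf_relIndex_right (centralizer ((D₀ ⊔ D : Subgroup G) : Set G))]
    congr 1
    apply le_antisymm
    · exact le_inf (inf_le_left.trans (centralizer_le (le_sup_left : D₀ ≤ D₀ ⊔ D))) inf_le_right
    · refine le_inf ?_ inf_le_right
      rw [inf_comm]
      exact hcap
  have e2 : (centralizer (A : Set G)).relIndex (D₀ ⊔ D) =
      (centralizer ((cj k A : Subgroup G) : Set G)).relIndex (D₀ ⊔ D) := by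
    rw [← EZero.relIndex_cj k, cj_centralizer, hkL]
  rw [e1, e2]
  exact h1.trans_le (relIndex_le_of_le_right le_sup_left index_ne_zero_of_finite)

/-- `Y` acts on `⟨V^⟨S,Y⟩⟩` with the lines `(D₀D)^y`. -/
theorem sitR (hG : IsCharacteristicTwoType G) (hSne : (S : Subgroup G) ≠ ⊥)
    (cs : (S : Subgroup G) ⊓ centralizer (V : Set G) = B) :
    SitR (D₀ ⊔ D) D T Y (cl V ((S : Subgroup G) ⊔ Y)) where
  cm := cl_comm l (m.panZ q l cs).SX_cent hG hSne
  sq := cl_sq l (m.panZ q l cs).SX_cent hG hSne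
  VU := (m.LV q).trans (le_cl _ _)
  XU := le_sup_right.trans (le_normalizer_cl _ _)
  nff := fun _ h1 h2 h3 h4 h5 h6 => m.nff q l h1 h2 h3 h4 h5 h6
  FV := le_sup_right
  XF := m.YD
  syl := m.sylY
  mp := m.isMinPar q l cs
  TV := fun _ ht => (m.mem_iff q l (m.TY ht)).2 (q.S_le (m.T_le ht))
  nle := fun h0 => m.nle fun _ hy => (m.mem_iff q l hy).1 (h0 hy)
  min := fun M h1 h2 h3 _ hx => (m.mem_iff q l (h2 hx)).2 (m.min M h1 h2 h3 hx)
  ti := fun x hx hn => (inf_le_inf (m.LV q) (cj_mono x (m.LV q))).trans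
    (m.line q l hx fun h0 => hn ((m.mem_iff q l hx).2 h0))

/-- **`V = D₀D`** (THEOREM L) -/
theorem V_eq (hG : IsCharacteristicTwoType G) (hSne : (S : Subgroup G) ≠ ⊥)
    (cs : (S : Subgroup G) ⊓ centralizer (V : Set G) = B) {A : Subgroup G}
    (hA : Opt (cl V ((S : Subgroup G) ⊔ Y)) A) (hAT : A ≤ T) (hAY : ¬ A ≤ o2 Y) : V = D₀ ⊔ D := by
  have t := (m.sitR q l hG hSne cs).gtight hA hAT hAY
  obtain ⟨x, hx, hAx⟩ := t.ex
  have tx := t.all x hx hAx
  refine le_antisymm (fun v hv => ?_) (m.LV q)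
  have hvU : x * v * x⁻¹ ∈ cl V ((S : Subgroup G) ⊔ Y) :=
    cj_le_cl (mem_sup_right hx) (EZero.mem_cj_self hv)
  rw [← tx.sup] at hvU
  have hcm : cj x (D₀ ⊔ D) ≤ centralizer ((cl V ((S : Subgroup G) ⊔ Y) : Subgroup G) : Set G) := by
    refine le_trans ?_ (m.sitR q l hG hSne cs).cm
    exact (cj_mono x (m.LV q)).trans (cj_le_cl (mem_sup_right hx))
  obtain ⟨a, ha, c, hc, hac⟩ : ∃ a ∈ cj x (D₀ ⊔ D), ∃ c ∈ cl V ((S : Subgroup G) ⊔ Y) ⊓ centralizer (A : Set G),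
      a * c = x * v * x⁻¹ := by
    have hle : cj x (D₀ ⊔ D) ≤
        normalizer ((cl V ((S : Subgroup G) ⊔ Y) ⊓ centralizer (A : Set G) : Subgroup G) : Set G) :=
      (hcm.trans (centralizer_le inf_le_left)).trans (centralizer_le_normalizer _)
    exact CTwo.mem_sup_of_le_norm hle hvU
  obtain ⟨b, hb, hbn⟩ := SetLike.not_le_iff_exists.1 hAx
  have hbY : b ∈ Y := m.TY (hAT hb)
  -- `c ∈ V^x ∩ V^{bx} ≤ D`
  have hcV : c ∈ cj x V := by
    have e : c = a⁻¹ * (x * v * x⁻¹) := by rw [← hac, inv_mul_cancel_left]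
    rw [e]
    exact mul_mem (inv_mem (cj_mono x (m.LV q) ha)) (EZero.mem_cj_self hv)
  have hcb : c ∈ cj (b * x) V := by
    have h1 : b * c * b⁻¹ ∈ cj b (cj x V) := EZero.mem_cj_self hcV
    rw [cj_cj] at h1
    have h2 := mem_centralizer_iff.1 hc.2 b hb
    rwa [h2, mul_inv_cancel_right] at h1
  have hmem : x⁻¹ * b * x ∈ Y := mul_mem (mul_mem (inv_mem hx) hbY) hx
  have hnm : x⁻¹ * b * x ∉ normalizer (D₀ : Set G) := by
    intro h0
    apply hbn
    have h1 := (m.mem_iff q l hmem).2 h0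
    rw [← cj_normalizer]
    exact mem_cj.2 h1
  have h3 := cj_mono x (m.line q l hmem hnm)
  rw [cj_inf, cj_cj, m.cjD hx] at h3
  have e : x * (x⁻¹ * b * x) = b * x := by group
  rw [e] at h3
  have hcD : c ∈ cj x (D₀ ⊔ D) := by
    have h4 := cj_mono x (le_sup_right : D ≤ D₀ ⊔ D)
    rw [m.cjD hx] at h4
    exact h4 (h3 ⟨hcV, hcb⟩)
  have h5 : x * v * x⁻¹ ∈ cj x (D₀ ⊔ D) := by
    rw [← hac]; exact mul_mem ha hcD
  have h6 := mem_cj.1 h5
  have e2 : x⁻¹ * (x * v * x⁻¹) * x = v := by group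
  rwa [e2] at h6

end Mx

/-- **`C_G(Z) ≤ N_G(D₀)`** -/
theorem Pt.cent_le (q : Pt S V D₀) (hFF : FFThm.Stmt.{u}) (hG : IsCharacteristicTwoType G)
    (hSne : (S : Subgroup G) ≠ ⊥) (l : Lines S B V) (cs : (S : Subgroup G) ⊓ centralizer (V : Set G) = B)
    (oz : ∀ T Y : Subgroup G, PanZ S B V T Y →
      ∃ A, Opt (cl V ((S : Subgroup G) ⊔ Y)) A ∧ A ≤ B ∧ ¬ A ≤ o2 Y) :
    centralizer (zc (S : Subgroup G) : Set G) ≤ normalizer (D₀ : Set G) := by
  by_contra hn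
  obtain ⟨D, T, Y, m⟩ := exists_max l q hn
  have p := m.panZ q l cs
  obtain ⟨A, hA, hAB, hAY⟩ := oz T Y p
  have hAT : A ≤ T := hAB.trans p.BT
  have hV := m.V_eq q l hG hSne cs hA hAT hAY
  have hTV : T ≤ centralizer (V : Set G) := by
    rw [← m.T_eq]
    exact q.full D m.ZD m.DV hV
  have h1 := Holo.cen_mod hFF (S := (S : Subgroup G)) (T := T) (X := Y) (Y := cl V ((S : Subgroup G) ⊔ Y))
    (V := V) (A := A) S.isPGroup' (le_sup_left.trans (le_normalizer_cl _ _))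
    (le_sup_right.trans (le_normalizer_cl _ _)) (cl_comm l p.SX_cent hG hSne) (cl_sq l p.SX_cent hG hSne)
    m.T_le m.sylY p.mp (le_cl _ _) m.cs_le (fun D hD hok hm => p.max_le l hG hSne hok hm hD) hAT hA.toOk hA.max
    hAY (m.YZ.trans (centralizer_le (cl_inf_cent l p.SX_cent hG hSne)))
  have h2 : V ≤ centralizer (oddGen Y : Set G) := (le_inf (le_cl _ _) (cent_symm hTV)).trans h1
  apply p.nle
  rw [← oddGen_sup_syl m.sylY]
  exact sup_le ((cent_symm h2).trans (centralizer_le_normalizer _)) (m.T_le.trans l.S_le)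

/-- at the last stage of a chain with the steps `PanZ` (`PanZ.step_of`) -/
theorem Pt.cent_le_of_last (q : Pt S V D₀) {Z₁ : Subgroup G} (hFF : FFThm.Stmt.{u}) (hG : IsCharacteristicTwoType G)
    (hOff : StmtOff G) (hSne : (S : Subgroup G) ≠ ⊥) (l : Lines S B V)
    (cs : (S : Subgroup G) ⊓ centralizer (V : Set G) = B) (eq : V = cl Z₁ (normalizer (B : Set G)))
    (zZ : zc (S : Subgroup G) ≤ Z₁)
    (last : ∀ T X : Subgroup G, PanZ S B V T X →
      (∃ R : Subgroup G, R ≠ ⊥ ∧ IsPGroup 2 R ∧ normalizer (B : Set G) ≤ normalizer (R : Set G) ∧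
        X ≤ normalizer (R : Set G)) →
      NotFF (cl Z₁ (normalizer (B : Set G) ⊔ X)) →
      ¬ cl Z₁ (normalizer (B : Set G) ⊔ X) ≤ o2 (centralizer (zc (S : Subgroup G) : Set G))) :
    centralizer (zc (S : Subgroup G) : Set G) ≤ normalizer (D₀ : Set G) := by
  refine q.cent_le hFF hG hSne l cs fun T Y p => p.exists_opt_of_ff l cs hG hSne fun hn => ?_
  obtain ⟨h1, h2, h3⟩ := p.step_of l cs eq zZ hG hOff hSne hn
  exact last T Y p h1 h2 h3

/-- with LEMMA OZ -/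
theorem Pt.cent_le_of_oz (q : Pt S V D₀) {Z₁ : Subgroup G} (o : OZ S Z₁ B V) (hFF : FFThm.Stmt.{u})
    (hG : IsCharacteristicTwoType G) (hOff : StmtOff G) (hSne : (S : Subgroup G) ≠ ⊥) :
    centralizer (zc (S : Subgroup G) : Set G) ≤ normalizer (D₀ : Set G) :=
  q.cent_le hFF hG hSne o.lines o.cs fun _ _ p => p.exists_optY o hG hOff hSne

end Cfsg.Agent.Omega.NO3b.Base

end

section


/-!
# LEMMA OZ and the base point for `LocG` (seed `Z₁ = Z = Ω₁(Z(S))`)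

* `oz_of_locG` : `OZ S Z B (VB S B)` for `LocG S M B`;
* `exists_opt_of_locG` : LEMMA OZ; `cent_le_of_locG` : `C_G(Z) ≤ N_G(D₀)` for a base point `D₀`.
-/

set_option autoImplicit false

namespace Cfsg.Agent.Omega.NO3b.Base

open Subgroup Cfsg
open Cfsg.Agent.ZN (o2 zc zl)
open Cfsg.Agent.Omega.NO3b.EZero (NotFF cl)
open Cfsg.Agent.Omega.NO3b.Exit (Adm VB)
open Cfsg.Agent.Omega.NOThreeL.Star (Opt)
open Cfsg.Agent.Omega.NOThreeL.HypGFrame (LocG)

universe u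

variable {G : Type u} [Group G] [Finite G] {S : Sylow 2 G} {M B : Subgroup G}

theorem oz_of_locG (h : LocG S M B) : OZ S (zc (S : Subgroup G)) B (VB (S : Subgroup G) B) where
  lines := h.adm.lines
  cs := h.adm.cs
  eq := rfl
  zZ := le_rfl
  max := fun B' hle hwc hcs hcm hsq hnf hlow hV => by
    have a : Adm S M B' := ⟨hwc, hle.trans h.adm.le, hcs, hcm, hsq, hnf, hlow⟩
    exact (eq_of_le_of_card_ge hV (h.max B' a)).ge

/-- **LEMMA OZ** for `LocG` -/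
theorem exists_opt_of_locG (h : LocG S M B) (hG : IsCharacteristicTwoType G) (hSne : (S : Subgroup G) ≠ ⊥)
    {T X : Subgroup G} (p : PanZ S B (VB (S : Subgroup G) B) T X) :
    ∃ A, Opt (cl (VB (S : Subgroup G) B) ((S : Subgroup G) ⊔ X)) A ∧ A ≤ B ∧ ¬ A ≤ o2 X :=
  p.exists_optY (oz_of_locG h) hG (NO3b.Final.stmtOff G) hSne

/-- **`C_G(Z) ≤ N_G(D₀)`** for `LocG` -/
theorem cent_le_of_locG (h : LocG S M B) (hG : IsCharacteristicTwoType G) (hSne : (S : Subgroup G) ≠ ⊥)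
    {D₀ : Subgroup G} (q : Pt S (VB (S : Subgroup G) B) D₀) :
    centralizer (zc (S : Subgroup G) : Set G) ≤ normalizer (D₀ : Set G) :=
  q.cent_le_of_oz (oz_of_locG h) FFBr.ffthm hG (NO3b.Final.stmtOff G) hSne

end Cfsg.Agent.Omega.NO3b.Base

end

section


/-!
# `C_G(D) ≤ N_G(Lb D)` for `LocG`
-/

set_option autoImplicit false

namespace Cfsg.Agent.Omega.NO3b.Base

open Subgroup Cfsg
open Cfsg.Agent.ZN (o2 zc zl)
open Cfsg.Agent.Omega.NO3b.Exit (Adm VB)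
open Cfsg.Agent.Omega.NOThreeL.HypGFrame (LocG)

universe u

variable {G : Type u} [Group G] [Finite G] {S : Sylow 2 G} {M B : Subgroup G} {Lb : Subgroup G → Subgroup G}

/-- **`C_G(D) ≤ N_G(Lb D)`** for `LocG` -/
theorem move_of_locG (h : LocG S M B) (q : MPt S B (VB (S : Subgroup G) B) Lb)
    (hG : IsCharacteristicTwoType G) (hSne : (S : Subgroup G) ≠ ⊥) {D : Subgroup G}
    (hZ : zc (S : Subgroup G) ≤ D) (hD : D ≤ VB (S : Subgroup G) B) :
    centralizer (D : Set G) ≤ normalizer (Lb D : Set G) :=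
  q.cent_le_of_oz (oz_of_locG h) hG (NO3b.Final.stmtOff G) hSne hZ hD

/-- **`C_G(Z) ≤ N_G(Lb Z)`** for `LocG` -/
theorem move_zc_of_locG (h : LocG S M B) (q : MPt S B (VB (S : Subgroup G) B) Lb)
    (hG : IsCharacteristicTwoType G) (hSne : (S : Subgroup G) ≠ ⊥) :
    centralizer (zc (S : Subgroup G) : Set G) ≤ normalizer (Lb (zc (S : Subgroup G)) : Set G) :=
  move_of_locG h q hG hSne le_rfl (oz_of_locG h).lines.ZV

end Cfsg.Agent.Omega.NO3b.Base

end
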