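import Cfsg.Agent.Mrg.Omega.NO3b.Base.Wcy
import Cfsg.Agent.Mrg.Omega.NO3b.Exit.TwoFac

section


/-!
# LEMMA OZ (#19027, helper602): offenders for every minimal parabolic over `C_S(V)` in `C_G(Z)`

`Z = Ω₁(Z(S)) ≤ Z₁`, `B = C_S(V)` weakly closed in `S`, `V = ⟨Z₁^{N_G(B)}⟩`, `Lines S B V`, `V` maximal (`OZ.max`: no
admissible `B' ≤ B` has `⟨Z₁^{N_G(B')}⟩ > V`). `X` a minimal parabolic over `T`, `B ≤ T ≤ S`, `X ≤ C_G(Z)`,
`X ≰ N_G(V)` (`PanZ`). No locality of `⟨N_G(B), X⟩`, no maximal flat.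

* `cl_comm`, `cl_sq`, `cl_low` : `⟨V^H⟩` for `H ≤ C_G(Z)` is elementary abelian, `≤ O₂(C_G(Z))`;
* `PanZ.step_of` : if `Y = ⟨V^⟨S,X⟩⟩` is not FF then `X` gives a step of the chain: `⟨N_G(B), X⟩` is local and
  `⟨Z₁^⟨N_G(B),X⟩⟩ ≤ O₂(C_G(Z))` is not FF;
* `PanZ.Y_ff` : `Y` is FF if `V` is maximal;
* `PanZ.exists_opt_of_ff`, `PanZ.exists_optY` : **an optimal offender `A ≤ B` of `Y` with `A ≰ O₂(X)`**.
-/

set_option autoImplicit false

namespace Cfsg.Agent.Omega.NO3b.Base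

open Subgroup Cfsg
open Cfsg.Agent.ZN (o2 zc zl jj zj)
open Cfsg.Agent.ZN.ChoiceBase hiding mem_zc
open Cfsg.Agent.ZN.ChoiceSit (Syl exists_syl syl_conj o2_le_syl syl_not_dvd)
open Cfsg.Agent.MinSimple.EmptyTI (syl_of_le)
open Cfsg.Agent.Omega.NO3b.EZero (NotFF cent_symm cj_cent cj_norm cj_eq_cj_iff cl le_cl cj_le_cl cl_le
  le_normalizer_cl le_normalizer_inf_cent oddGen_sup_syl isPGroup_Q0 sq_of_comm)
open Cfsg.Agent.Omega.FFThm (ElemM OffM NoOverM)
open Cfsg.Agent.Omega.NOThreeL.Star (Opt Ok exists_opt ff)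
open Cfsg.Agent.Omega.NO3b.Wc
open Cfsg.Agent.Omega.NO3b.Exit
open Cfsg.Agent.Omega.NO3b.NoEmp (Lines)
open Cfsg.Agent.MinSimple.MinParabolic (IsMinPar)
open Cfsg.Agent.MinSimple.VModule (zc_le mem_zc le_centralizer_zc zc_sq
  le_normalizer_o2 o2_isPGroup le_o2 zc_comm normalizer_le_normalizer_zc o2_le oddGen oddGen_le
  mem_normalizer_of_map_le)

universe u

variable {G : Type u} [Group G] [Finite G] {S : Sylow 2 G} {B V H : Subgroup G}

section cl

variable (l : Lines S B V) (hH : H ≤ centralizer (zc (S : Subgroup G) : Set G))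
include l hH

theorem cl_comm (hG : IsCharacteristicTwoType G) (hSne : (S : Subgroup G) ≠ ⊥) :
    cl V H ≤ centralizer (cl V H : Set G) := by
  have hZ := MinSimple.Basic.zc_ne_bot S.isPGroup' hSne
  have hle : ∀ h ∈ H, zc (S : Subgroup G) ≤ cj h V := by
    intro h hh
    have h1 := cj_mono h l.ZV
    rwa [cj_eq_of_mem_normalizer (centralizer_le_normalizer _ (hH hh))] at h1
  refine cl_le fun a ha => cent_symm (cl_le fun b hb => ?_)
  refine l.comm_of_inter (l.char2 hG) fun h0 => hZ (le_bot_iff.1 ?_)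
  rw [← h0]
  exact le_inf (hle b hb) (hle a ha)

theorem cl_sq (hG : IsCharacteristicTwoType G) (hSne : (S : Subgroup G) ≠ ⊥) : ∀ y ∈ cl V H, y ^ 2 = 1 := by
  refine sq_of_comm (cl_comm l hH hG hSne) (B := fun h : H => cj (h : G) V) (fun h => cj_le_cl h.2) le_rfl
    fun h b hb => l.cj_sq _ b hb

theorem cl_low : cl V H ≤ o2 (centralizer (zc (S : Subgroup G) : Set G)) := by
  refine cl_le fun x hx => ?_
  have h1 := cj_mono x l.low
  rwa [cj_eq_of_mem_normalizer (le_normalizer_o2 _ (hH hx))] at h1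

theorem cl_le_S : cl V H ≤ (S : Subgroup G) :=
  (cl_low l hH).trans (o2_le_syl (syl_of_le (le_centralizer_zc _)))

theorem cl_inf_cent (hG : IsCharacteristicTwoType G) (hSne : (S : Subgroup G) ≠ ⊥) :
    cl V H ⊓ centralizer (S : Set G) ≤ zc (S : Subgroup G) := by
  rintro y ⟨hy, hyc⟩
  exact Cfsg.Agent.ZN.ChoiceBase.mem_zc.2 ⟨cl_le_S l hH hy, cl_sq l hH hG hSne y hy, fun s hs =>
    mem_centralizer_iff.1 hyc s hs⟩

end cl

/-- The frame of LEMMA OZ. -/
structure OZ (S : Sylow 2 G) (Z₁ B V : Subgroup G) : Prop where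
  lines : Lines S B V
  cs : (S : Subgroup G) ⊓ centralizer (V : Set G) = B
  eq : V = cl Z₁ (normalizer (B : Set G))
  zZ : zc (S : Subgroup G) ≤ Z₁
  max : ∀ B' : Subgroup G, B' ≤ B → WC (S : Subgroup G) B' →
    (S : Subgroup G) ⊓ centralizer (cl Z₁ (normalizer (B' : Set G)) : Set G) = B' →
    cl Z₁ (normalizer (B' : Set G)) ≤ centralizer (cl Z₁ (normalizer (B' : Set G)) : Set G) →
    (∀ v ∈ cl Z₁ (normalizer (B' : Set G)), v ^ 2 = 1) → NotFF (cl Z₁ (normalizer (B' : Set G))) →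
    cl Z₁ (normalizer (B' : Set G)) ≤ o2 (centralizer (zc (S : Subgroup G) : Set G)) →
    V ≤ cl Z₁ (normalizer (B' : Set G)) → cl Z₁ (normalizer (B' : Set G)) ≤ V

/-- `X` is a minimal parabolic over `T`, `B ≤ T ≤ S`, `X ≤ C_G(Z)`, `X ≰ N_G(V)`. -/
structure PanZ (S : Sylow 2 G) (B V T X : Subgroup G) : Prop where
  TS : T ≤ (S : Subgroup G)
  BT : B ≤ T
  syl : Syl T X
  mp : IsMinPar T X
  XZ : X ≤ centralizer (zc (S : Subgroup G) : Set G)
  nle : ¬ X ≤ normalizer (V : Set G)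

namespace PanZ

variable {T X : Subgroup G} (p : PanZ S B V T X)
include p

omit [Finite G] in
theorem SX_cent : (S : Subgroup G) ⊔ X ≤ centralizer (zc (S : Subgroup G) : Set G) :=
  sup_le (le_centralizer_zc _) p.XZ

variable (l : Lines S B V)
include l

/-- `C_T(⟨V^X⟩) ≤ O₂(X)` -/
theorem cent_U : T ⊓ centralizer (cl V X : Set G) ≤ o2 X := by
  rcases K0.min_or p.syl p.mp (K := X ⊓ centralizer (cl V X : Set G)) inf_le_left
    (le_normalizer_inf_cent (le_normalizer_cl _ _)) with h1 | h1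
  · exfalso
    apply p.nle
    rw [← oddGen_sup_syl p.syl]
    refine sup_le ?_ (p.TS.trans l.S_le)
    exact (h1.trans inf_le_right).trans ((centralizer_le (le_cl _ _)).trans (centralizer_le_normalizer _))
  · exact (le_inf inf_le_left (le_inf (inf_le_left.trans p.syl.1) inf_le_right)).trans h1

/-- maximisers on `Y` in `S` centralise `V` -/
theorem max_le (hG : IsCharacteristicTwoType G) (hSne : (S : Subgroup G) ≠ ⊥) {D : Subgroup G}
    (hD : Ok (cl V ((S : Subgroup G) ⊔ X)) D)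
    (hm : ∀ C, Ok (cl V ((S : Subgroup G) ⊔ X)) C →
      ff (cl V ((S : Subgroup G) ⊔ X)) C ≤ ff (cl V ((S : Subgroup G) ⊔ X)) D)
    (hDS : D ≤ (S : Subgroup G)) : D ≤ centralizer (V : Set G) := by
  by_contra hne
  have hoff := offM_of_max hD hm (cl_comm l p.SX_cent hG hSne) (le_cl _ _) hne
  have h3 := l.nff D hD.pg (hDS.trans l.S_le) hoff.sq hoff.comm hne
  exact absurd (FFThm.relIndex_le_iff.1 hoff.le) (not_le.2 h3)

/-- The frame of `Wcy.lean` for `Y = ⟨V^⟨S,X⟩⟩`, if `Y` is not FF. -/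
theorem rootY {Z₁ : Subgroup G} (cs : (S : Subgroup G) ⊓ centralizer (V : Set G) = B)
    (eq : V = cl Z₁ (normalizer (B : Set G))) (zZ : zc (S : Subgroup G) ≤ Z₁) (hG : IsCharacteristicTwoType G)
    (hSne : (S : Subgroup G) ≠ ⊥) (hn : NotFF (cl V ((S : Subgroup G) ⊔ X))) :
    RootY S Z₁ (cl V ((S : Subgroup G) ⊔ X)) ∧
      WY (S : Subgroup G) (cl V ((S : Subgroup G) ⊔ X)) ≤ B ∧
      normalizer (B : Set G) ⊔ X ≤ normalizer (WY (S : Subgroup G) (cl V ((S : Subgroup G) ⊔ X)) : Set G) := by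
  set Y := cl V ((S : Subgroup G) ⊔ X) with hY
  have hVY : V ≤ Y := le_cl _ _
  have hYn : (S : Subgroup G) ⊔ X ≤ normalizer (Y : Set G) := le_normalizer_cl _ _
  have hWB : WY (S : Subgroup G) Y ≤ B := by
    rw [← cs]
    exact (WY_le _ _).trans (inf_le_inf_left _ (centralizer_le hVY))
  have hWX : WY (S : Subgroup G) Y ≤ o2 X := by
    refine le_trans (le_inf (hWB.trans p.BT) ?_) (p.cent_U l)
    exact ((WY_le _ _).trans inf_le_right).trans (centralizer_le (cl_le fun x hx => cj_le_cl (mem_sup_right hx)))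
  have hNB : normalizer (B : Set G) ≤ normalizer (WY (S : Subgroup G) Y : Set G) := by
    intro g hg
    refine mem_norm_WY ?_
    have h1 := cj_mono g hWB
    rw [cj_eq_of_mem_normalizer hg] at h1
    exact h1.trans l.JS
  have hX : X ≤ normalizer (WY (S : Subgroup G) Y : Set G) := by
    intro x hx
    refine mem_norm_WY ?_
    have h1 := cj_mono x hWX
    rw [cj_eq_of_mem_normalizer (le_normalizer_o2 _ hx)] at h1
    exact h1.trans ((o2_le_syl p.syl).trans p.TS)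
  have hSX : (S : Subgroup G) ⊔ X ≤ normalizer (WY (S : Subgroup G) Y : Set G) :=
    sup_le (wc_S_le (wc_WY _ _)) hX
  have hVV : V ≤ VY Z₁ (S : Subgroup G) Y := by
    conv_lhs => rw [eq]
    exact cl_le fun g hg => cj_le_cl (hNB hg)
  have hYV : Y ≤ VY Z₁ (S : Subgroup G) Y := by
    refine cl_le fun g hg => ?_
    have h1 := cj_mono g hVV
    have h2 : cj g (VY Z₁ (S : Subgroup G) Y) = VY Z₁ (S : Subgroup G) Y :=
      cj_eq_of_mem_normalizer (le_normalizer_cl _ _ (hSX hg))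
    rwa [h2] at h1
  have hZV : Z₁ ≤ V := by
    rw [eq]
    exact le_cl _ _
  exact ⟨{ SY := le_sup_left.trans hYn
           YS := cl_le_S l p.SX_cent
           comm := cl_comm l p.SX_cent hG hSne
           sq := cl_sq l p.SX_cent hG hSne
           nff := hn
           zZ := zZ
           ZY := hZV.trans hVY
           YV := hYV }, hWB, sup_le hNB hX⟩

/-- **A step of the chain**: if `Y = ⟨V^⟨S,X⟩⟩` is not FF then `⟨N_G(B), X⟩` is local, `V_{L'} = ⟨Z₁^⟨N_G(B),X⟩⟩` is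
not FF and lies in `O₂(C_G(Z))`. -/
theorem step_of {Z₁ : Subgroup G} (cs : (S : Subgroup G) ⊓ centralizer (V : Set G) = B)
    (eq : V = cl Z₁ (normalizer (B : Set G))) (zZ : zc (S : Subgroup G) ≤ Z₁) (hG : IsCharacteristicTwoType G)
    (hOff : StmtOff G) (hSne : (S : Subgroup G) ≠ ⊥) (hn : NotFF (cl V ((S : Subgroup G) ⊔ X))) :
    (∃ R : Subgroup G, R ≠ ⊥ ∧ IsPGroup 2 R ∧ normalizer (B : Set G) ≤ normalizer (R : Set G) ∧
      X ≤ normalizer (R : Set G)) ∧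
    NotFF (cl Z₁ (normalizer (B : Set G) ⊔ X)) ∧
    cl Z₁ (normalizer (B : Set G) ⊔ X) ≤ o2 (centralizer (zc (S : Subgroup G) : Set G)) := by
  obtain ⟨r, hWB, hL⟩ := p.rootY l cs eq zZ hG hSne hn
  set Y := cl V ((S : Subgroup G) ⊔ X) with hY
  set L := normalizer (B : Set G) ⊔ X with hLd
  have hSL : (S : Subgroup G) ≤ L := l.S_le_NJ.trans le_sup_left
  have hLn : L ≤ normalizer (cl Z₁ L : Set G) := le_normalizer_cl _ _
  have hU : cl Z₁ L ≤ VY Z₁ (S : Subgroup G) Y := cl_le fun g hg => cj_le_cl (hL hg)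
  have hVU : V ≤ cl Z₁ L := by
    conv_lhs => rw [eq]
    exact cl_le fun g hg => cj_le_cl (mem_sup_left hg)
  have hYU : Y ≤ cl Z₁ L := by
    refine cl_le fun g hg => ?_
    have h1 := cj_mono g hVU
    have h2 : cj g (cl Z₁ L) = cl Z₁ L :=
      cj_eq_of_mem_normalizer (hLn ((sup_le hSL le_sup_right : (S : Subgroup G) ⊔ X ≤ L) hg))
    rwa [h2] at h1
  have hUc : cl Z₁ L ≤ centralizer (cl Z₁ L : Set G) := (hU.trans r.V_comm).trans (centralizer_le hU)
  refine ⟨⟨WY (S : Subgroup G) Y, fun h0 => ?_, S.isPGroup'.to_le ((WY_le _ _).trans inf_le_left),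
    le_sup_left.trans hL, le_sup_right.trans hL⟩, ?_, hU.trans (r.low hG hOff hSne (cl_low l p.SX_cent))⟩
  · have h1 : zc (S : Subgroup G) ≤ ⊥ := by
      rw [← h0]
      exact (zZ.trans r.ZY).trans (r.Y_le_jj.trans r.jj_le)
    exact MinSimple.Basic.zc_ne_bot S.isPGroup' hSne (le_bot_iff.1 h1)
  · by_contra hff
    obtain ⟨A0, hA0⟩ := exists_opt hff
    obtain ⟨n, hn', hnS⟩ := FFThm.exists_conj_le S (hSL.trans hLn) hA0.pg hA0.norm
    have hD : ∀ D, Opt (cl Z₁ L) D → D ≤ (S : Subgroup G) → D ≤ B ∧ D ≤ o2 X := by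
      intro D hD hDS
      have hDY : D ≤ centralizer (Y : Set G) := by
        by_contra hne
        have hoff := offM_of_opt hD hUc hYU hne
        have h3 := hn D hD.pg (hDS.trans r.SY) hoff.sq hoff.comm hne
        exact absurd (FFThm.relIndex_le_iff.1 hoff.le) (not_le.2 h3)
      have hDB : D ≤ B := by
        rw [← cs]
        exact le_inf hDS (hDY.trans (centralizer_le (le_cl _ _)))
      refine ⟨hDB, le_trans (le_inf (hDB.trans p.BT) ?_) (p.cent_U l)⟩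
      exact hDY.trans (centralizer_le (cl_le fun x hx => cj_le_cl (mem_sup_right hx)))
    set K : Subgroup G := sSup {D | Opt (cl Z₁ L) D ∧ D ≤ (S : Subgroup G)} with hK
    have hKB : K ≤ B := sSup_le fun D h => (hD D h.1 h.2).1
    have hKn : L ≤ normalizer (K : Set G) := by
      have h1 : ∀ g ∈ L, (∀ D, Opt (cl Z₁ L) D → D ≤ (S : Subgroup G) → cj g D ≤ (S : Subgroup G)) →
          g ∈ normalizer (K : Set G) := by
        intro g hg h1
        refine mem_normalizer_of_map_le ?_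
        change cj g K ≤ K
        rw [hK, cj_sSup]
        refine iSup_le fun D => ?_
        exact le_sSup (a := cj g D) ⟨D.2.1.cj (hLn hg), h1 D D.2.1 D.2.2⟩
      refine sup_le (fun m hm => h1 m (mem_sup_left hm) fun D hD1 hDS => ?_)
        (fun x hx => h1 x (mem_sup_right hx) fun D hD1 hDS => ?_)
      · have h2 := cj_mono m (hD D hD1 hDS).1
        rw [cj_eq_of_mem_normalizer hm] at h2
        exact h2.trans l.JS
      · have h2 := cj_mono x (hD D hD1 hDS).2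
        rw [cj_eq_of_mem_normalizer (le_normalizer_o2 _ hx)] at h2
        exact h2.trans ((o2_le_syl p.syl).trans p.TS)
    have hZV : Z₁ ≤ V := by
      rw [eq]
      exact le_cl _ _
    have hKU : K ≤ centralizer (cl Z₁ L : Set G) := by
      refine cent_symm (cl_le fun x hx => ?_)
      have h1 := cj_cent (g := x) (cent_symm (hKB.trans (l.JV.trans (centralizer_le hZV))))
      rwa [cj_eq_of_mem_normalizer (hKn hx)] at h1
    have h2 : cj n A0 ∈ {D | Opt (cl Z₁ L) D ∧ D ≤ (S : Subgroup G)} := ⟨hA0.cj hn', hnS⟩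
    exact (hA0.cj hn').ne ((le_sSup h2).trans hKU)

omit l in
/-- **`Y = ⟨V^⟨S,X⟩⟩` is FF** for `V` maximal. -/
theorem Y_ff {Z₁ : Subgroup G} (o : OZ S Z₁ B V) (hG : IsCharacteristicTwoType G) (hOff : StmtOff G)
    (hSne : (S : Subgroup G) ≠ ⊥) : ¬ NotFF (cl V ((S : Subgroup G) ⊔ X)) := by
  intro hn
  have l := o.lines
  obtain ⟨r, hWB, hL⟩ := p.rootY l o.cs o.eq o.zZ hG hSne hn
  have hVY : V ≤ cl V ((S : Subgroup G) ⊔ X) := le_cl _ _
  have h1 := o.max (WY (S : Subgroup G) (cl V ((S : Subgroup G) ⊔ X))) hWB (wc_WY _ _) r.cs_V r.V_comm r.V_sq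
    r.V_nff (r.low hG hOff hSne (cl_low l p.SX_cent)) (hVY.trans r.YV)
  apply p.nle
  have h2 : cl V ((S : Subgroup G) ⊔ X) = V := le_antisymm (r.YV.trans h1) hVY
  have h3 := le_sup_right.trans (le_normalizer_cl V ((S : Subgroup G) ⊔ X))
  rwa [h2] at h3

/-- an optimal offender `A ≤ B` of `Y = ⟨V^⟨S,X⟩⟩` with `A ≰ O₂(X)`, if `Y` is FF -/
theorem exists_opt_of_ff (cs : (S : Subgroup G) ⊓ centralizer (V : Set G) = B) (hG : IsCharacteristicTwoType G)
    (hSne : (S : Subgroup G) ≠ ⊥) (hff : ¬ NotFF (cl V ((S : Subgroup G) ⊔ X))) :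
    ∃ A, Opt (cl V ((S : Subgroup G) ⊔ X)) A ∧ A ≤ B ∧ ¬ A ≤ o2 X := by
  set Y := cl V ((S : Subgroup G) ⊔ X) with hY
  have hYn : (S : Subgroup G) ⊔ X ≤ normalizer (Y : Set G) := le_normalizer_cl _ _
  have hYS : (S : Subgroup G) ≤ normalizer (Y : Set G) := le_sup_left.trans hYn
  obtain ⟨A0, hA0⟩ := exists_opt hff
  obtain ⟨n, hn, hnS⟩ := FFThm.exists_conj_le S hYS hA0.pg hA0.norm
  have hB : ∀ D, Opt Y D → D ≤ (S : Subgroup G) → D ≤ B := fun D hD hDS =>
    (le_inf hDS (p.max_le l hG hSne hD.toOk hD.max hDS)).trans cs.le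
  by_contra hcon
  push Not at hcon
  set K : Subgroup G := sSup {D | Opt Y D ∧ D ≤ (S : Subgroup G)} with hK
  have hKB : K ≤ B := sSup_le fun D hD => hB D hD.1 hD.2
  have hKX : K ≤ o2 X := sSup_le fun D hD => hcon D hD.1 (hB D hD.1 hD.2)
  have hKn : (S : Subgroup G) ⊔ X ≤ normalizer (K : Set G) := by
    have h1 : ∀ g ∈ (S : Subgroup G) ⊔ X, (∀ D, Opt Y D → D ≤ (S : Subgroup G) → cj g D ≤ (S : Subgroup G)) →
        g ∈ normalizer (K : Set G) := by
      intro g hg h1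
      refine mem_normalizer_of_map_le ?_
      change cj g K ≤ K
      rw [hK, cj_sSup]
      refine iSup_le fun D => ?_
      exact le_sSup (a := cj g D) ⟨D.2.1.cj (hYn hg), h1 D D.2.1 D.2.2⟩
    refine sup_le (fun s hs => h1 s (mem_sup_left hs) fun D _ hDS => ?_)
      (fun x hx => h1 x (mem_sup_right hx) fun D hD hDS => ?_)
    · have h2 := cj_mono s hDS
      rwa [cj_eq_of_mem_normalizer (Subgroup.le_normalizer hs)] at h2
    · have h2 := cj_mono x (hcon D hD (hB D hD hDS))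
      rw [cj_eq_of_mem_normalizer (le_normalizer_o2 _ hx)] at h2
      exact h2.trans ((o2_le_syl p.syl).trans p.TS)
  have hKV : K ≤ centralizer (V : Set G) := hKB.trans l.JV
  have hKY : K ≤ centralizer (Y : Set G) := by
    refine cent_symm (cl_le fun x hx => ?_)
    have h1 := cj_cent (g := x) (cent_symm hKV)
    rwa [cj_eq_of_mem_normalizer (hKn hx)] at h1
  have h2 : cj n A0 ∈ {D | Opt Y D ∧ D ≤ (S : Subgroup G)} := ⟨hA0.cj hn, hnS⟩
  exact (hA0.cj hn).ne ((le_sSup h2).trans hKY)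

omit l in
/-- **LEMMA OZ**: an optimal offender `A ≤ B` of `Y = ⟨V^⟨S,X⟩⟩` with `A ≰ O₂(X)`. -/
theorem exists_optY {Z₁ : Subgroup G} (o : OZ S Z₁ B V) (hG : IsCharacteristicTwoType G) (hOff : StmtOff G)
    (hSne : (S : Subgroup G) ≠ ⊥) :
    ∃ A, Opt (cl V ((S : Subgroup G) ⊔ X)) A ∧ A ≤ B ∧ ¬ A ≤ o2 X :=
  p.exists_opt_of_ff o.lines o.cs hG hSne (p.Y_ff o hG hOff hSne)

end PanZ

end Cfsg.Agent.Omega.NO3b.Base

end

section


/-!
# The moving base point (#22211, helper16; #22310, helper506): `C_G(D) ≤ N_G(Lb D)` for all `Z ≤ D ≤ V`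

`Lines S B V`, `B = C_S(V)`, `Z = Ω₁(Z(S))`. `MPt S B V Lb` : to every `Z ≤ D ≤ V` belongs a subgroup `Lb D`,
`D ≤ Lb D ≤ V`, monotone in `D`, `C_G(Z) ∩ N_G(B)`-equivariant, `Lb D ≠ V` if `C_G(D) ≰ N_G(V)`, and the subgroups `A`
of `C_S(D)` with `[V, A] ≤ D` do not offend on `Lb D`.

* `exists_mx` : `D` maximal with `C_G(D) ≰ N_G(Lb D)`, `T = C_S(D)` Sylow in `C_G(D)`, `Y ≥ T` minimal in `C_G(D)` with
  `Y ≰ N_G(Lb D)` (`MxL S V Lb D T Y`);
* `MxL.line` : `V ∩ V^y ≤ D` for `y ∈ Y - N_G(Lb D)`; `MxL.panZ` : LEMMA OZ applies to `Y`.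
-/

set_option autoImplicit false

namespace Cfsg.Agent.Omega.NO3b.Base

open Subgroup Cfsg
open Cfsg.Agent.ZN (o2 zc zl jj zj)
open Cfsg.Agent.ZN.ChoiceBase hiding mem_zc
open Cfsg.Agent.ZN.ChoiceSit (Syl exists_syl syl_conj o2_le_syl syl_not_dvd)
open Cfsg.Agent.MinSimple.EmptyTI (syl_of_le)
open Cfsg.Agent.Omega.NO3b.EZero (NotFF cent_symm cj_cent cj_norm cj_eq_cj_iff cl le_cl cj_le_cl cl_le
  le_normalizer_cl le_normalizer_inf_cent oddGen_sup_syl isPGroup_Q0)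
open Cfsg.Agent.Omega.NO3b.NoEmp (Lines)
open Cfsg.Agent.MinSimple.MinParabolic (IsMinPar)
open Cfsg.Agent.MinSimple.VModule (le_centralizer_zc le_normalizer_o2 o2_isPGroup oddGen oddGen_le)

universe u

variable {G : Type u} [Group G] [Finite G] {S : Sylow 2 G} {B V : Subgroup G} {Lb : Subgroup G → Subgroup G}

/-- The moving base point. -/
structure MPt (S : Sylow 2 G) (B V : Subgroup G) (Lb : Subgroup G → Subgroup G) : Prop where
  le : ∀ D : Subgroup G, zc (S : Subgroup G) ≤ D → D ≤ V → D ≤ Lb D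
  leV : ∀ D : Subgroup G, zc (S : Subgroup G) ≤ D → D ≤ V → Lb D ≤ V
  mono : ∀ D D' : Subgroup G, zc (S : Subgroup G) ≤ D → D ≤ D' → D' ≤ V → Lb D ≤ Lb D'
  eqv : ∀ D : Subgroup G, zc (S : Subgroup G) ≤ D → D ≤ V → ∀ m : G,
    m ∈ centralizer (zc (S : Subgroup G) : Set G) → m ∈ normalizer (B : Set G) → Lb (cj m D) = cj m (Lb D)
  prop : ∀ D : Subgroup G, zc (S : Subgroup G) ≤ D → D ≤ V →
    ¬ centralizer (D : Set G) ≤ normalizer (V : Set G) → Lb D ≠ V
  nfl : ∀ D : Subgroup G, zc (S : Subgroup G) ≤ D → D ≤ V →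
    ¬ centralizer (D : Set G) ≤ normalizer (V : Set G) →
    ∀ A : Subgroup G, A ≤ (S : Subgroup G) → A ≤ centralizer (D : Set G) →
    (∀ a ∈ A, ∀ v ∈ V, a * v * a⁻¹ * v⁻¹ ∈ D) → ¬ A ≤ centralizer (Lb D : Set G) →
    (centralizer (Lb D : Set G)).relIndex A < (centralizer (A : Set G)).relIndex (Lb D)

/-- `N_G(P) ≤ N_G(B)` for a 2-group `P ≥ B`. -/
theorem norm_le_normB (l : Lines S B V) {P : Subgroup G} (hP : IsPGroup 2 P) (hBP : B ≤ P) :
    normalizer (P : Set G) ≤ normalizer (B : Set G) := by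
  obtain ⟨a, h1, h2, -⟩ := l.exists_point hP (a := 1) (by rw [cj_one]; exact hBP)
  rw [cj_one] at h2
  intro t ht
  rw [mem_normalizer_iff_cj]
  have h3 : cj (a⁻¹ * t) B ≤ (S : Subgroup G) := by
    have h4 := cj_mono t hBP
    rw [mem_normalizer_iff_cj.1 ht] at h4
    have h5 := cj_mono a⁻¹ (h4.trans h1)
    rwa [cj_cj, cj_inv_cj] at h5
  have h4 := l.wc _ h3
  have h5 : a⁻¹ ∈ normalizer (B : Set G) := inv_mem (mem_normalizer_iff_cj.2 h2)
  have h6 : a * (a⁻¹ * t) ∈ normalizer (B : Set G) := mul_mem (mem_normalizer_iff_cj.2 h2)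
    (mem_normalizer_iff_cj.2 h4)
  rw [mul_inv_cancel_left] at h6
  exact mem_normalizer_iff_cj.1 h6

/-- Frattini: `X = C_X(E) (X ∩ N_G(B))` for `X ≥ C_G(V)`, `E ≤ V` normal in `X`. -/
theorem frat (l : Lines S B V) {X E : Subgroup G} (hBX : B ≤ X) (hEV : E ≤ V)
    (hXE : X ≤ normalizer (E : Set G)) {c : G} (hc : c ∈ X) :
    ∃ k ∈ X ⊓ centralizer (E : Set G), ∃ n ∈ X ⊓ normalizer (B : Set G), c = k * n := by
  have hB : B ≤ X ⊓ centralizer (E : Set G) := le_inf hBX (l.JV.trans (centralizer_le hEV))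
  obtain ⟨P, hP, hBP⟩ := exists_syl (S.isPGroup'.to_le l.JS) hB
  have hn : X ≤ normalizer ((X ⊓ centralizer (E : Set G) : Subgroup G) : Set G) := le_normalizer_inf_cent hXE
  have h1 : Syl (cj c P) (X ⊓ centralizer (E : Set G)) := by
    have hC : X ⊓ centralizer (E : Set G) = cj c (X ⊓ centralizer (E : Set G)) :=
      (cj_eq_of_mem_normalizer (hn hc)).symm
    rw [hC]
    refine ⟨cj_mono _ hP.1, isPGroup_cj _ hP.2.1, fun Q hQ hp hle => ?_⟩
    have h2 := hP.2.2 (cj c⁻¹ Q) (by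
      rw [cj_le_iff, inv_inv]; exact hQ) (isPGroup_cj _ hp) (by
      have h3 := cj_mono c⁻¹ hle
      rwa [cj_inv_cj] at h3)
    rw [← h2, cj_cj_inv]
  obtain ⟨k, hk, hkP⟩ := syl_conj h1 hP
  rw [cj_cj] at hkP
  have h2 : k * c ∈ normalizer (P : Set G) := mem_normalizer_iff_cj.2 hkP
  refine ⟨k⁻¹, inv_mem hk, k * c, ⟨mul_mem hk.1 hc, norm_le_normB l hP.2.1 hBP h2⟩, by group⟩

namespace MPt

variable (q : MPt S B V Lb) (l : Lines S B V)
include q l

/-- `C_G(D) ∩ N_G(V) ≤ N_G(Lb D)` -/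
theorem stab {D : Subgroup G} (hZ : zc (S : Subgroup G) ≤ D) (hD : D ≤ V) :
    centralizer (D : Set G) ⊓ normalizer (V : Set G) ≤ normalizer (Lb D : Set G) := by
  intro c hc
  obtain ⟨k, hk, n, hn, rfl⟩ := frat l (X := centralizer (D : Set G) ⊓ normalizer (V : Set G)) (E := V)
    (le_inf (l.JV.trans (centralizer_le hD)) (l.JV.trans (centralizer_le_normalizer _))) le_rfl inf_le_right hc
  refine mul_mem ?_ ?_
  · exact centralizer_le_normalizer _ (centralizer_le (q.leV D hZ hD) hk.2)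
  · have h1 := q.eqv D hZ hD n (centralizer_le hZ hn.1.1) hn.2
    rw [cj_eq_of_mem_normalizer (centralizer_le_normalizer _ hn.1.1)] at h1
    exact mem_normalizer_iff_cj.2 h1.symm

end MPt

/-- `D` maximal in `V` with `Z ≤ D`, `C_G(D) ≰ N_G(Lb D)`; `T ≤ S` Sylow in `C_G(D)`; `Y ≥ T` minimal in `C_G(D)` with
`Y ≰ N_G(Lb D)`. -/
structure MxL (S : Sylow 2 G) (V : Subgroup G) (Lb : Subgroup G → Subgroup G) (D T Y : Subgroup G) : Prop where
  ZD : zc (S : Subgroup G) ≤ D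
  DV : D ≤ V
  max : ∀ D' : Subgroup G, D ≤ D' → D' ≤ V → D' ≠ D → centralizer (D' : Set G) ≤ normalizer (Lb D' : Set G)
  T_le : T ≤ (S : Subgroup G)
  syl : Syl T (centralizer (D : Set G))
  TY : T ≤ Y
  YD : Y ≤ centralizer (D : Set G)
  nle : ¬ Y ≤ normalizer (Lb D : Set G)
  min : ∀ M : Subgroup G, T ≤ M → M ≤ Y → M ≠ Y → M ≤ normalizer (Lb D : Set G)

/-- **`D`, `T`, `Y` exist.** -/
theorem exists_mx (l : Lines S B V) (q : MPt S B V Lb) {D₁ : Subgroup G} (hZ₁ : zc (S : Subgroup G) ≤ D₁)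
    (hV₁ : D₁ ≤ V) (hn : ¬ centralizer (D₁ : Set G) ≤ normalizer (Lb D₁ : Set G)) :
    ∃ D T Y, MxL S V Lb D T Y := by
  obtain ⟨F, hF, hmax⟩ := Set.exists_max_image
    {F : Subgroup G | zc (S : Subgroup G) ≤ F ∧ F ≤ V ∧ ¬ centralizer (F : Set G) ≤ normalizer (Lb F : Set G)}
    (fun F => Nat.card F) (Set.toFinite _) ⟨_, hZ₁, hV₁, hn⟩
  have hJ : B ≤ centralizer (F : Set G) := l.JV.trans (centralizer_le hF.2.1)
  obtain ⟨T, hT, hJT⟩ := exists_syl (S.isPGroup'.to_le l.JS) hJ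
  have hTB : T ≤ normalizer (B : Set G) := Subgroup.le_normalizer.trans (norm_le_normB l hT.2.1 hJT)
  have hTZ : T ≤ centralizer (zc (S : Subgroup G) : Set G) := hT.1.trans (centralizer_le hF.1)
  obtain ⟨T₁, hT₁, hTT₁⟩ := exists_syl hT.2.1 (le_inf hTZ hTB)
  obtain ⟨c, hc, hcT⟩ := syl_conj hT₁ (syl_of_le (le_inf (Alpha.zc_cent (S := S)) l.S_le_NJ))
  have hcV : cj c V = V := mem_normalizer_iff_cj.1 (l.NJ hc.2)
  have hcZ : cj c (zc (S : Subgroup G)) = zc (S : Subgroup G) :=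
    cj_eq_of_mem_normalizer (centralizer_le_normalizer _ hc.1)
  have hZ : zc (S : Subgroup G) ≤ cj c F := by
    have h1 := cj_mono c hF.1
    rwa [hcZ] at h1
  have hFV : cj c F ≤ V := by
    have h1 := cj_mono c hF.2.1
    rwa [hcV] at h1
  have hL : Lb (cj c F) = cj c (Lb F) := q.eqv F hF.1 hF.2.1 c hc.1 hc.2
  have hnle : ¬ centralizer ((cj c F : Subgroup G) : Set G) ≤ normalizer (Lb (cj c F) : Set G) := by
    intro h0
    apply hF.2.2
    rw [hL, ← cj_centralizer, ← cj_normalizer] at h0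
    have h1 := cj_mono c⁻¹ h0
    rwa [cj_inv_cj, cj_inv_cj] at h1
  have hsyl : Syl (cj c T) (centralizer ((cj c F : Subgroup G) : Set G)) := by
    have hC : centralizer ((cj c F : Subgroup G) : Set G) = cj c (centralizer (F : Set G)) :=
      (cj_centralizer _ _).symm
    rw [hC]
    refine ⟨cj_mono _ hT.1, isPGroup_cj _ hT.2.1, fun Q hQ hp hle => ?_⟩
    have h2 := hT.2.2 (cj c⁻¹ Q) (by
      rw [cj_le_iff, inv_inv]; exact hQ) (isPGroup_cj _ hp) (by
      have h3 := cj_mono c⁻¹ hle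
      rwa [cj_inv_cj] at h3)
    rw [← h2, cj_cj_inv]
  obtain ⟨Y, hY, hmin⟩ := Set.exists_min_image {P : Subgroup G | cj c T ≤ P ∧
      P ≤ centralizer ((cj c F : Subgroup G) : Set G) ∧ ¬ P ≤ normalizer (Lb (cj c F) : Set G)}
    (fun P => Nat.card P) (Set.toFinite _) ⟨_, hsyl.1, le_rfl, hnle⟩
  refine ⟨cj c F, cj c T, Y, ⟨hZ, hFV, fun D' h1 h2 h3 => ?_, (cj_mono c hTT₁).trans hcT.le, hsyl, hY.1, hY.2.1,
    hY.2.2, fun M hTM hMP hne => ?_⟩⟩
  · by_contra hcon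
    refine h3 (eq_of_le_of_card_ge h1 ?_).symm
    rw [card_cj]
    exact hmax D' ⟨hZ.trans h1, h2, hcon⟩
  · by_contra hcon
    exact hne (eq_of_le_of_card_ge hMP (hmin M ⟨hTM, hMP.trans hY.2.1, hcon⟩))

namespace MxL

variable {D T Y : Subgroup G} (m : MxL S V Lb D T Y)
include m

omit [Finite G] in
theorem YZ : Y ≤ centralizer (zc (S : Subgroup G) : Set G) := m.YD.trans (centralizer_le m.ZD)

omit [Finite G] in
theorem T_eq : (S : Subgroup G) ⊓ centralizer (D : Set G) = T :=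
  m.syl.2.2 _ inf_le_right (S.isPGroup'.to_le inf_le_left) (le_inf m.T_le m.syl.1)

omit [Finite G] in
theorem sylY : Syl T Y := ⟨m.TY, m.syl.2.1, fun Q hQ hp hle => m.syl.2.2 Q (hQ.trans m.YD) hp hle⟩

omit [Finite G] in
theorem cs_le : (S : Subgroup G) ⊓ centralizer (V : Set G) ≤ T := by
  rw [← m.T_eq]
  exact inf_le_inf_left _ (centralizer_le m.DV)

omit [Finite G] in
theorem cjD {y : G} (hy : y ∈ Y) : cj y D = D :=
  cj_eq_of_mem_normalizer (centralizer_le_normalizer _ (m.YD hy))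

omit [Finite G] in
theorem nleD : ¬ Lb D ≤ D := fun h0 =>
  m.nle (m.YD.trans ((centralizer_le h0).trans (centralizer_le_normalizer _)))

variable (q : MPt S B V Lb) (l : Lines S B V)
include q l

theorem nleV : ¬ Y ≤ normalizer (V : Set G) := fun h0 => m.nle ((le_inf m.YD h0).trans (q.stab l m.ZD m.DV))

/-- `V ∩ V^y ≤ D` for `y ∈ Y - N_G(Lb D)` -/
theorem line {y : G} (hy : y ∈ Y) (hyD : y ∉ normalizer (Lb D : Set G)) : V ⊓ cj y V ≤ D := by
  have hD : D ≤ V ⊓ cj y V := by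
    refine le_inf m.DV ?_
    have h1 := cj_mono y m.DV
    rwa [m.cjD hy] at h1
  by_cases hne : V ⊓ cj y V = D
  · exact hne.le
  exfalso
  apply hyD
  obtain ⟨c, hc, hcy⟩ := Alpha.exists_c l (D := V ⊓ cj y V) inf_le_left inf_le_right
  have hcD : c ∈ centralizer (D : Set G) := centralizer_le hD hc
  have h1 : c⁻¹ * y ∈ normalizer (V : Set G) := cj_eq_cj_iff.1 hcy.symm
  have h0 : c⁻¹ * y ∈ centralizer (D : Set G) := mul_mem (inv_mem hcD) (m.YD hy)
  have h2 := q.stab l m.ZD m.DV ⟨h0, h1⟩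
  have hc' : c ∈ normalizer (Lb D : Set G) := by
    have hX := m.max _ hD inf_le_left hne
    obtain ⟨k, hk, n, hn, rfl⟩ := frat l (X := centralizer ((V ⊓ cj y V : Subgroup G) : Set G))
      (E := Lb (V ⊓ cj y V)) (l.JV.trans (centralizer_le inf_le_left))
      (q.leV _ (m.ZD.trans hD) inf_le_left) hX hc
    refine mul_mem ?_ ?_
    · exact centralizer_le_normalizer _ (centralizer_le (q.mono D _ m.ZD hD inf_le_left) hk.2)
    · exact q.stab l m.ZD m.DV ⟨centralizer_le hD hn.1, l.NJ hn.2⟩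
  have h3 := mul_mem hc' h2
  rwa [mul_inv_cancel_left] at h3

/-- `Y` is a minimal parabolic over `T`. -/
theorem isMinPar (cs : (S : Subgroup G) ⊓ centralizer (V : Set G) = B) : IsMinPar T Y := by
  refine ⟨m.TY, fun h0 => m.nle ?_, Y ⊓ normalizer (Lb D : Set G), ?_, fun K hK hKP =>
    le_inf hKP.le (m.min K hK hKP.le hKP.ne)⟩
  · have h1 : Y ≤ normalizer (V : Set G) := h0.trans ((Alpha.normalizer_le l m.T_le (by
      rw [← cs]; exact m.cs_le)).trans l.NJ)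
    exact (le_inf m.YD h1).trans (q.stab l m.ZD m.DV)
  · exact lt_of_le_of_ne inf_le_left fun h1 => m.nle (inf_eq_left.1 h1)

/-- The panel of LEMMA OZ. -/
theorem panZ (cs : (S : Subgroup G) ⊓ centralizer (V : Set G) = B) : PanZ S B V T Y where
  TS := m.T_le
  BT := by rw [← cs]; exact m.cs_le
  syl := m.sylY
  mp := m.isMinPar q l cs
  XZ := m.YZ
  nle := m.nleV q l

end MxL

end Cfsg.Agent.Omega.NO3b.Base

end
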